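import Mathlib
import Cfsg.Prelude.Def_Characters
import Cfsg.Prelude.Def_CharExt
import Cfsg.Agent.Lib.Helper3.DetChar
import Cfsg.Agent.Lib.Helper6.PConj2
import Cfsg.Agent.Lib.Helper6.GaloisConj

/-!
# Galois conjugates of characters

For a ring automorphism `σ` of `ℂ` and a character `χ`, the function `σ ∘ χ` is again a character,
irreducible if `χ` is, and its determinantal character is `σ ∘ det χ`.
-/

set_option autoImplicit false

namespace Cfsg.Agent.Lib.Helper5.PSolvLin

open Cfsg

variable {G : Type*} [Group G]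

/-- entrywise conjugate of a coordinate representation by a ring endomorphism of `ℂ` -/
noncomputable def galRep (σ : ℂ →+* ℂ) {n : ℕ} (ρ : Representation ℂ G (Fin n → ℂ)) :
    Representation ℂ G (Fin n → ℂ) where
  toFun g := Matrix.toLin' (σ.mapMatrix (LinearMap.toMatrix' (ρ g)))
  map_one' := by
    rw [map_one, LinearMap.toMatrix'_one, map_one, Matrix.toLin'_one]
    rfl
  map_mul' g h := by
    rw [map_mul, LinearMap.toMatrix'_mul, map_mul, Matrix.toLin'_mul]
    rfl

theorem galRep_apply (σ : ℂ →+* ℂ) {n : ℕ} (ρ : Representation ℂ G (Fin n → ℂ)) (g : G) :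
    galRep σ ρ g = Matrix.toLin' (σ.mapMatrix (LinearMap.toMatrix' (ρ g))) := rfl

theorem galRep_character (σ : ℂ →+* ℂ) {n : ℕ} (ρ : Representation ℂ G (Fin n → ℂ)) (g : G) :
    (galRep σ ρ).character g = σ (ρ.character g) := by
  unfold Representation.character
  rw [galRep_apply, Matrix.trace_toLin'_eq]
  have h1 : LinearMap.trace ℂ (Fin n → ℂ) (ρ g) = Matrix.trace (LinearMap.toMatrix' (ρ g)) := by
    conv_lhs => rw [← Matrix.toLin'_toMatrix' (ρ g)]
    rw [Matrix.trace_toLin'_eq]
  rw [h1]
  exact (AddMonoidHom.map_trace σ _).symm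

theorem galRep_det (σ : ℂ →+* ℂ) {n : ℕ} (ρ : Representation ℂ G (Fin n → ℂ)) (g : G) :
    LinearMap.det (galRep σ ρ g) = σ (LinearMap.det (ρ g)) := by
  rw [galRep_apply, LinearMap.det_toLin']
  have h1 : LinearMap.det (ρ g) = Matrix.det (LinearMap.toMatrix' (ρ g)) := by
    conv_lhs => rw [← Matrix.toLin'_toMatrix' (ρ g)]
    rw [LinearMap.det_toLin']
  rw [h1]
  exact (RingHom.map_det σ _).symm

/-- the Galois conjugate of a character is a character -/
theorem IsCharacter.galConj (σ : ℂ →+* ℂ) {χ : G → ℂ} (hχ : IsCharacter G χ) :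
    IsCharacter G (fun g => σ (χ g)) := by
  obtain ⟨n, ρ, rfl⟩ := hχ
  exact ⟨n, galRep σ ρ, funext fun g => galRep_character σ ρ g⟩

/-- determinantal character of a Galois conjugate -/
theorem detChar_galConj [Finite G] (σ : ℂ →+* ℂ) {χ : G → ℂ} (hχ : IsCharacter G χ) :
    detChar (fun g => σ (χ g)) = fun g => σ (detChar χ g) := by
  obtain ⟨n, ρ, rfl⟩ := hχ
  have h1 : (fun g => σ (ρ.character g)) = (galRep σ ρ).character :=
    funext fun g => (galRep_character σ ρ g).symm
  rw [h1, Cfsg.Agent.Lib.Helper3.DetChar.detChar_character,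
    Cfsg.Agent.Lib.Helper3.DetChar.detChar_character]
  funext g
  exact galRep_det σ ρ g

/-- determinantal order of a Galois conjugate -/
theorem detOrder_galConj [Finite G] (σ : ℂ ≃+* ℂ) {χ : G → ℂ} (hχ : IsCharacter G χ) :
    detOrder (fun g => σ (χ g)) = detOrder χ := by
  unfold detOrder
  have h := detChar_galConj (σ : ℂ →+* ℂ) hχ
  simp only [RingEquiv.coe_toRingHom] at h
  rw [h]
  let F : (G → ℂ) →* (G → ℂ) :=
    { toFun := fun f g => σ (f g)
      map_one' := by funext g; simp
      map_mul' := by intro a b; funext g; simp }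
  have hF : Function.Injective F := by
    intro a b hab
    funext g
    have := congrFun hab g
    exact σ.injective this
  exact orderOf_injective F hF (detChar χ)

/-- the Galois conjugate of an irreducible character is irreducible -/
theorem IsIrrCharacter.galConj [Finite G] (σ : ℂ ≃+* ℂ) {χ : G → ℂ} (hχ : IsIrrCharacter G χ) :
    IsIrrCharacter G (fun g => σ (χ g)) := by
  classical
  have : Fintype G := Fintype.ofFinite G
  have hcard : Nat.card G ≠ 0 := Nat.card_pos.ne'
  obtain ⟨k, hk, hpow⟩ := Cfsg.Agent.Lib.Helper6.PConj2.exists_pow_of_ringEquiv (Nat.card G) hcard σ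
  have hχc : IsCharacter G χ := by
    obtain ⟨n, ρ, _, h⟩ := hχ
    exact ⟨n, ρ, h⟩
  have h1 : (fun g => σ (χ g)) = fun g => χ (g ^ k) := by
    funext g
    exact Cfsg.Agent.Lib.Helper6.PConj2.ringEquiv_character_pow hcard σ hpow hχc g pow_card_eq_one'
  rw [h1]
  exact Cfsg.Agent.Lib.Helper6.IsIrrCharacter.comp_pow hχ hk

end Cfsg.Agent.Lib.Helper5.PSolvLin
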