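import Mathlib
import Cfsg.Prelude.Def_Characters
import Cfsg.Prelude.Def_CharExt
import Cfsg.Agent.Lib.Helper3.CanonExt
import Cfsg.Agent.Lib.Helper3.CT7
import Cfsg.Agent.Lib.Lead.PF3
import Cfsg.Agent.Lib.Helper6.PConj
import Cfsg.Agent.Lib.Helper6.Multiplicity
import Cfsg.Agent.Lib.Helper6.Auto
import Cfsg.Agent.Lib.Helper5.PSolvLin.GalChar

/-!
# The canonical extension is `p`-rational

Let `A` be a normal `p'`-subgroup of `L`, `A ≤ T` with `|T : A|` a power of `p`, and `θ` a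
`T`-invariant irreducible character of `A`. The unique extension of `θ` to `T` of determinantal
order prime to `p` is fixed by every field automorphism fixing the `|A|`-th roots of unity.
-/

set_option autoImplicit false

namespace Cfsg.Agent.Lib.Helper5.PSolvLin

open Cfsg Cfsg.Agent.Lib.Helper6

variable {L : Type*} [Group L] [Finite L]

theorem exists_prat_extension (A : Subgroup L) (hA : A.Normal) (T : Subgroup L) (hAT : A ≤ T)
    (p : ℕ) (hp : p.Prime) (hpA : ¬ p ∣ Nat.card A) (hidx : ∃ k, A.relIndex T = p ^ k)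
    (θ : A → ℂ) (hθ : IsIrrCharacter A θ) (hinv : ∀ t ∈ T, conjFun A hA θ t = θ) :
    ∃ θh : T → ℂ, IsIrrCharacter T θh ∧ (∀ a : A, θh ⟨a, hAT a.2⟩ = θ a) ∧
      ∀ σ : ℂ ≃+* ℂ, σ (Complex.exp (2 * Real.pi * Complex.I / (Nat.card A : ℕ))) =
        Complex.exp (2 * Real.pi * Complex.I / (Nat.card A : ℕ)) → ∀ t : T, σ (θh t) = θh t := by
  classical
  have := hA
  have : Fintype L := Fintype.ofFinite L
  have hp' : Fact p.Prime := ⟨hp⟩
  obtain ⟨k, hk⟩ := hidx
  have hNTn : (A.subgroupOf T).Normal := hA.subgroupOf T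
  let e : (A.subgroupOf T) ≃* A := Subgroup.subgroupOfEquivOfLe hAT
  have hcardN : Nat.card (A.subgroupOf T) = Nat.card A := Nat.card_congr e.toEquiv
  obtain ⟨θ', hθ'def⟩ : ∃ θ' : A.subgroupOf T → ℂ, θ' = fun k => θ (e k) := ⟨_, rfl⟩
  have hθ'app : ∀ n : A.subgroupOf T, θ' n = θ (e n) := fun n => by rw [hθ'def]
  have hθ' : IsIrrCharacter (A.subgroupOf T) θ' := by
    rw [hθ'def]; exact IsIrrCharacter.comp_mulEquiv e hθ
  have hθ'c := IsIrrCharacter.isCharacter hθ'
  -- solvable quotient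
  have hidx' : (A.subgroupOf T).index = p ^ k := hk
  have hcardQ : Nat.card (↥T ⧸ A.subgroupOf T) = p ^ k := by
    rw [← Subgroup.index_eq_card]; exact hidx'
  have hPG : IsPGroup p (↥T ⧸ A.subgroupOf T) := IsPGroup.of_card hcardQ
  have hnil : Group.IsNilpotent (↥T ⧸ A.subgroupOf T) := hPG.isNilpotent
  have hsolv : Group.IsSolvable (↥T ⧸ A.subgroupOf T) := inferInstance
  have hinvT : ∀ (t : T) (n : A.subgroupOf T),
      θ' ⟨t * n * t⁻¹, hNTn.conj_mem (n : T) n.2 t⟩ = θ' n := by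
    intro t n
    rw [hθ'app, hθ'app]
    have h1 : conjFun A hA θ (t : L) = θ := hinv t t.2
    have h2 := congrFun h1 (e n)
    rw [conjFun_apply] at h2
    exact h2
  have hd : θ' 1 = (charDegree θ' : ℂ) :=
    IsCharacter.apply_one_eq_charDegree hθ'c
  have hdet : detOrder θ' ∣ Nat.card A := by
    rw [← hcardN]; exact Cfsg.Agent.Lib.Lead.PF.detOrder_dvd_card hθ'c
  have hdeg : charDegree θ' ∣ Nat.card A := by
    rw [← hcardN]; exact IsIrrCharacter.charDegree_dvd_card hθ'
  have hcopA : Nat.Coprime (p ^ k) (Nat.card A) :=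
    Nat.Coprime.pow_left k ((Nat.Prime.coprime_iff_not_dvd hp).2 hpA)
  have hcop : Nat.Coprime (A.subgroupOf T).index
      (detOrder θ' * charDegree θ') := by
    rw [hidx']
    exact Nat.Coprime.mul_right (hcopA.coprime_dvd_right hdet) (hcopA.coprime_dvd_right hdeg)
  obtain ⟨χ, ⟨hχirr, hχext, hχdet⟩, huniq⟩ :=
    Cfsg.Agent.Lib.Helper3.CanonExt.exists_unique_extension_of_coprime_solvable
      (A.subgroupOf T) hsolv θ' hθ' hinvT _ hd hcop
  refine ⟨χ, hχirr, ?_, ?_⟩
  · intro a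
    have := hχext ⟨⟨a, hAT a.2⟩, Subgroup.mem_subgroupOf.mpr a.2⟩
    rw [hθ'app] at this
    exact this
  · intro σ hσ t
    have h1 : IsIrrCharacter T (fun t => σ (χ t)) := IsIrrCharacter.galConj σ hχirr
    have h2 : ∀ n : A.subgroupOf T, (fun t => σ (χ t)) n = θ' n := by
      intro n
      show σ (χ n) = θ' n
      rw [hχext n]
      apply ringEquiv_fix_character (n := Nat.card A) Nat.card_pos.ne' σ hσ hθ'c n
      rw [← hcardN]; exact pow_card_eq_one'
    have h3 : Nat.Coprime (A.subgroupOf T).index (detOrder (fun t => σ (χ t))) := by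
      rw [detOrder_galConj σ (IsIrrCharacter.isCharacter hχirr), hχdet, hidx']
      exact hcopA.coprime_dvd_right hdet
    have h4 := huniq _ h1 h2 h3
    exact congrFun h4 t

end Cfsg.Agent.Lib.Helper5.PSolvLin
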