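import Mathlib
import Cfsg.Prelude.Def_Characters
import Cfsg.Agent.Lib.Helper6.CAut
import Cfsg.Agent.Lib.Helper6.GaloisRat

/-!
# Membership in a cyclotomic field from Galois invariance

A sum of roots of unity that is fixed by every ring automorphism of `ℂ` fixing `exp (2πi/r)`
lies in `ℚ(exp (2πi/r))`.
-/

set_option autoImplicit false

namespace Cfsg.Agent.Lib.Helper5.PSolvLin

open Cfsg Polynomial

set_option backward.isDefEq.respectTransparency false in
theorem sum_mem_adjoin_of_fixed {ι : Type*} [Fintype ι] (m : ℕ) (hm : 0 < m) (r : ℕ) (hr : 0 < r)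
    (μ : ι → ℂ) (hμ : ∀ i, μ i ^ m = 1)
    (hfix : ∀ σ : ℂ ≃+* ℂ,
      σ (Complex.exp (2 * Real.pi * Complex.I / r)) = Complex.exp (2 * Real.pi * Complex.I / r) →
      σ (∑ i, μ i) = ∑ i, μ i) :
    ∑ i, μ i ∈ IntermediateField.adjoin ℚ
      ({Complex.exp (2 * Real.pi * Complex.I / r)} : Set ℂ) := by
  classical
  obtain ⟨M, hM⟩ : ∃ M, M = m * r := ⟨_, rfl⟩
  have hM0 : 0 < M := by rw [hM]; exact Nat.mul_pos hm hr
  have : NeZero M := ⟨hM0.ne'⟩
  have : NeZero r := ⟨hr.ne'⟩
  have hζ : IsPrimitiveRoot (IsCyclotomicExtension.zeta M ℚ (CyclotomicField M ℚ)) M :=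
    IsCyclotomicExtension.zeta_spec M ℚ (CyclotomicField M ℚ)
  set ζ := IsCyclotomicExtension.zeta M ℚ (CyclotomicField M ℚ) with hζdef
  have : FiniteDimensional ℚ (CyclotomicField M ℚ) :=
    IsCyclotomicExtension.finiteDimensional {M} ℚ (CyclotomicField M ℚ)
  have : IsGalois ℚ (CyclotomicField M ℚ) :=
    IsCyclotomicExtension.isGalois {M} ℚ (CyclotomicField M ℚ)
  let φ : (CyclotomicField M ℚ) →ₐ[ℚ] ℂ := IsAlgClosed.lift
  have hφinj : Function.Injective φ := φ.toRingHom.injective
  have hξ : IsPrimitiveRoot (φ ζ) M := hζ.map_of_injective hφinj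
  have hμM : ∀ i, μ i ^ M = 1 := by
    intro i
    rw [hM, pow_mul, hμ i, one_pow]
  have ha : ∀ i, ∃ a < M, (φ ζ) ^ a = μ i := fun i => hξ.eq_pow_of_pow_eq_one (hμM i)
  choose a haM ha using ha
  set α : (CyclotomicField M ℚ) := ∑ i, ζ ^ a i with hα
  have hφα : φ α = ∑ i, μ i := by
    simp only [hα, map_sum, map_pow, ha]
  -- the primitive r-th root of unity η = ζ^m
  set η : (CyclotomicField M ℚ) := ζ ^ m with hη
  have hηr : IsPrimitiveRoot η r := by
    have := hζ.pow hM0 (show M = m * r from hM)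
    exact this
  have hφη : IsPrimitiveRoot (φ η) r := hηr.map_of_injective hφinj
  have hexp : IsPrimitiveRoot (Complex.exp (2 * Real.pi * Complex.I / r)) r :=
    Complex.isPrimitiveRoot_exp r hr.ne'
  -- exp is a power of φ η and conversely
  obtain ⟨j, -, hj⟩ := hφη.eq_pow_of_pow_eq_one hexp.pow_eq_one
  obtain ⟨j', -, hj'⟩ := hexp.eq_pow_of_pow_eq_one hφη.pow_eq_one
  set F : IntermediateField ℚ (CyclotomicField M ℚ) := IntermediateField.adjoin ℚ {η} with hF
  have hαF : α ∈ F := by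
    rw [← IsGalois.fixedField_fixingSubgroup F, IntermediateField.mem_fixedField_iff]
    intro τ hτ
    have hτη : τ η = η := by
      have := (IntermediateField.mem_fixingSubgroup_iff F τ).mp hτ η
        (IntermediateField.mem_adjoin_simple_self ℚ η)
      exact this
    obtain ⟨σ, hσ⟩ := Cfsg.Agent.Lib.Helper6.CAut.exists_ringEquiv_extending
      (φ : (CyclotomicField M ℚ) →+* ℂ) (τ : (CyclotomicField M ℚ) ≃+* (CyclotomicField M ℚ))
    have hσexp : σ (Complex.exp (2 * Real.pi * Complex.I / r))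
        = Complex.exp (2 * Real.pi * Complex.I / r) := by
      rw [← hj, map_pow]
      have h1 := hσ η
      simp only [RingHom.coe_coe, RingEquiv.coe_mk] at h1
      have h2 : σ (φ η) = φ η := by
        rw [show σ (φ η) = φ (τ η) from h1, hτη]
      rw [h2]
    have h3 := hfix σ hσexp
    rw [← hφα] at h3
    have h4 := hσ α
    have h5 : φ (τ α) = φ α := by
      rw [← h3]
      exact h4.symm
    exact hφinj h5
  -- push forward along φ
  have h6 : φ α ∈ F.map φ := ⟨α, hαF, rfl⟩
  rw [hφα] at h6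
  have h7 : F.map φ ≤ IntermediateField.adjoin ℚ
      ({Complex.exp (2 * Real.pi * Complex.I / r)} : Set ℂ) := by
    rw [hF, IntermediateField.adjoin_map, Set.image_singleton,
      IntermediateField.adjoin_simple_le_iff, ← hj']
    exact pow_mem (IntermediateField.mem_adjoin_simple_self ℚ _) _
  exact h7 h6

variable {G : Type*} [Group G]

/-- a character value fixed by all automorphisms of `ℂ` fixing `exp (2πi/r)` lies in
`ℚ(exp (2πi/r))` -/
theorem character_mem_adjoin_of_fixed [Finite G] {χ : G → ℂ} (hχ : IsCharacter G χ) (x : G)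
    (r : ℕ) (hr : 0 < r)
    (hfix : ∀ σ : ℂ ≃+* ℂ,
      σ (Complex.exp (2 * Real.pi * Complex.I / r)) = Complex.exp (2 * Real.pi * Complex.I / r) →
      σ (χ x) = χ x) :
    χ x ∈ IntermediateField.adjoin ℚ ({Complex.exp (2 * Real.pi * Complex.I / r)} : Set ℂ) := by
  have hcard : 0 < Nat.card G := Nat.card_pos
  obtain ⟨k, μ, hμ, hval⟩ := Cfsg.Agent.Lib.Helper6.IsCharacter.exists_eigen_pow hχ x (Nat.card G)
    hcard pow_card_eq_one'
  have h1 : χ x = ∑ i, μ i := by
    have := hval 1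
    simpa using this
  rw [h1]
  apply sum_mem_adjoin_of_fixed (Nat.card G) hcard r hr μ hμ
  intro σ hσ
  rw [← h1]
  exact hfix σ hσ

end Cfsg.Agent.Lib.Helper5.PSolvLin
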