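import Mathlib
import Cfsg.Prelude.Def_Characters
import Cfsg.Agent.Lib.Helper3.CT7
import Cfsg.Agent.Lib.Helper6.CliffordStab
import Cfsg.Agent.Lib.Helper6.CliffordCorr
import Cfsg.Agent.Lib.Helper6.BlkCover
import Cfsg.Agent.Lib.Helper6.CharOps
import Cfsg.Agent.Lib.Helper6.Multiplicity
import Cfsg.Agent.Lib.Helper6.IndFun
import Cfsg.Agent.Lib.Helper5.PSolvLin.CanonRat

/-!
# `p`-rational lifts

Let `A` be a normal `p'`-subgroup of `L` with `L/A` a `p`-group. Every character of `L` agrees on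
`A` with a character of `L` that is fixed by all field automorphisms fixing the `|A|`-th roots of
unity.
-/

set_option autoImplicit false

namespace Cfsg.Agent.Lib.Helper5.PSolvLin

open Cfsg Cfsg.Agent.Lib.Helper6

variable {L : Type*} [Group L] [Fintype L]

omit [Fintype L] in
theorem extendByZero_galConj (σ : ℂ →+* ℂ) (H : Subgroup L) (θ : H → ℂ) (g : L) :
    extendByZero H (fun h => σ (θ h)) g = σ (extendByZero H θ g) := by
  by_cases hg : g ∈ H
  · rw [extendByZero_of_mem H _ hg, extendByZero_of_mem H _ hg]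
  · rw [extendByZero_of_not_mem H _ hg, extendByZero_of_not_mem H _ hg, map_zero]

theorem indFun_galConj (σ : ℂ →+* ℂ) (H : Subgroup L) (θ : H → ℂ) (g : L) :
    indFun H (fun h => σ (θ h)) g = σ (indFun H θ g) := by
  unfold indFun
  rw [map_mul, map_inv₀, map_natCast, map_sum]
  congr 1
  apply Finset.sum_congr rfl
  intro x _
  exact extendByZero_galConj σ H θ _

theorem exists_prat_lift_irr (A : Subgroup L) (hA : A.Normal) (p : ℕ) (hp : p.Prime)
    (hpA : ¬ p ∣ Nat.card A) (hidx : ∃ k, A.index = p ^ k) (η : L → ℂ)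
    (hη : IsIrrCharacter L η) :
    ∃ η' : L → ℂ, IsCharacter L η' ∧ (∀ a : A, η' a = η a) ∧
      ∀ σ : ℂ ≃+* ℂ, σ (Complex.exp (2 * Real.pi * Complex.I / (Nat.card A : ℕ))) =
        Complex.exp (2 * Real.pi * Complex.I / (Nat.card A : ℕ)) → ∀ x : L, σ (η' x) = η' x := by
  classical
  have := hA
  have : Fintype A := Fintype.ofFinite A
  obtain ⟨θ, hc⟩ := exists_constituent_restrict A hη
  obtain ⟨T, hTdef⟩ : ∃ T : Subgroup L, T = Cfsg.Agent.Lib.Helper3.CT.inertia A hA (θ : A → ℂ) :=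
    ⟨_, rfl⟩
  have : Fintype T := Fintype.ofFinite T
  have hAT : A ≤ T := by
    rw [hTdef]
    exact Cfsg.Agent.Lib.Helper3.CT.le_inertia A hA (IsIrrCharacter.isClassFunction θ.2)
  have hstab : ∀ g : L, conjFun A hA (θ : A → ℂ) g = (θ : A → ℂ) → g ∈ T := by
    intro g hg
    rw [hTdef]
    exact hg
  have hinv : ∀ t ∈ T, conjFun A hA (θ : A → ℂ) t = (θ : A → ℂ) := by
    intro t ht
    rw [hTdef] at ht
    exact ht
  obtain ⟨ξ, hξc, hξind⟩ := exists_indFun_eq_of_stab A hA T hAT θ hstab ⟨η, hη⟩ hc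
  have hres := restrict_eq_smul_of_invariant_of_le A hA T hAT ξ.2 θ.2 hinv hξc
  have hresc : IsCharacter A (fun n : A => (ξ : T → ℂ) ⟨n, hAT n.2⟩) :=
    IsCharacter.comp (Subgroup.inclusion hAT) (IsIrrCharacter.isCharacter ξ.2)
  obtain ⟨e, he⟩ := IsCharacter.classInner_irr_nat hresc θ.2
  rw [he] at hres
  obtain ⟨k, hk⟩ := hidx
  have hrel : ∃ j, A.relIndex T = p ^ j := by
    have h1 : A.relIndex T ∣ p ^ k := by
      rw [← hk]; exact Subgroup.relIndex_dvd_index_of_normal A T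
    obtain ⟨j, -, hj⟩ := (Nat.dvd_prime_pow hp).1 h1
    exact ⟨j, hj⟩
  obtain ⟨θh, hθh, hθhA, hθhσ⟩ := exists_prat_extension A hA T hAT p hp hpA hrel θ θ.2 hinv
  refine ⟨indFun T (e • θh),
    IsCharacter.indFun T (IsCharacter.nsmul (IsIrrCharacter.isCharacter hθh) e), ?_, ?_⟩
  · intro a
    have h1 := congrFun (indFun_restrict_of_le_normal A hA T hAT (e • θh)) a
    have h2 := congrFun (indFun_restrict_of_le_normal A hA T hAT (ξ : T → ℂ)) a
    have h3 : (fun n : A => (e • θh) ⟨n, hAT n.2⟩) = fun n : A => (ξ : T → ℂ) ⟨n, hAT n.2⟩ := by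
      rw [hres]
      funext n
      rw [Pi.smul_apply, Pi.smul_apply, hθhA n]
      simp
    have h4 : η a = indFun T (ξ : T → ℂ) a := by rw [hξind]
    rw [h4]
    exact h1.trans (by rw [h3]; exact h2.symm)
  · intro σ hσ x
    have h5 := indFun_galConj (σ : ℂ →+* ℂ) T (e • θh) x
    simp only [RingEquiv.coe_toRingHom] at h5
    rw [← h5]
    congr 1
    funext t
    rw [Pi.smul_apply, map_nsmul, hθhσ σ hσ t]

theorem exists_prat_lift (A : Subgroup L) (hA : A.Normal) (p : ℕ) (hp : p.Prime)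
    (hpA : ¬ p ∣ Nat.card A) (hidx : ∃ k, A.index = p ^ k) (ψ : L → ℂ)
    (hψ : IsCharacter L ψ) :
    ∃ ψ' : L → ℂ, IsCharacter L ψ' ∧ (∀ a : A, ψ' a = ψ a) ∧
      ∀ σ : ℂ ≃+* ℂ, σ (Complex.exp (2 * Real.pi * Complex.I / (Nat.card A : ℕ))) =
        Complex.exp (2 * Real.pi * Complex.I / (Nat.card A : ℕ)) → ∀ x : L, σ (ψ' x) = ψ' x := by
  classical
  have : Fintype (IrrCharacter L) := Fintype.ofFinite _
  obtain ⟨m, hm, -⟩ := IsCharacter.exists_mult hψ
  choose η' hη'c hη'A hη'σ using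
    fun η : IrrCharacter L => exists_prat_lift_irr A hA p hp hpA hidx (η : L → ℂ) η.2
  refine ⟨∑ η, m η • η' η,
    IsCharacter.sum _ _ (fun η _ => IsCharacter.nsmul (hη'c η) (m η)), ?_, ?_⟩
  · intro a
    rw [hm]
    simp only [Finset.sum_apply, Pi.smul_apply]
    apply Finset.sum_congr rfl
    intro η _
    rw [hη'A]
  · intro σ hσ x
    simp only [Finset.sum_apply, Pi.smul_apply, map_sum, map_nsmul]
    apply Finset.sum_congr rfl
    intro η _
    rw [hη'σ η σ hσ x]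

end Cfsg.Agent.Lib.Helper5.PSolvLin
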