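import Mathlib
import Cfsg.Prelude.Def_Characters
import Cfsg.Prelude.Def_Blocks
import Cfsg.Agent.S4488
import Cfsg.Agent.Lib.Helper6.CharBasic
import Cfsg.Agent.Lib.Helper5.PSolvLin.FieldMem
import Cfsg.Agent.Lib.Helper5.PSolvLin.PRatLift

/-!
# Bounding the `p`-part through a `p`-rational lift

Let `A` be a normal `p'`-subgroup of `L` with `L/A` a `p`-group and `ψ` a character of `L` of
degree `n` faithful on `A`. Then there is a `p`-subgroup `M` of `L` centralizing `A` such that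
the `p`-part of `|L : M|` satisfies the Schur bound for degree `n`.
-/

set_option autoImplicit false

namespace Cfsg.Agent.Lib.Helper5.PSolvLin

open Cfsg Cfsg.Agent.Lib.Helper6

variable {L : Type*} [Group L] [Finite L]

/-- kernel of a character and the deflated character of the quotient -/
theorem exists_kernel_deflation_char {χ : L → ℂ} (hχ : IsCharacter L χ) :
    ∃ (K : Subgroup L) (_ : K.Normal) (β : L ⧸ K → ℂ), (∀ g, g ∈ K ↔ χ g = χ 1) ∧
      IsCharacter (L ⧸ K) β ∧ ∀ g : L, β (QuotientGroup.mk g) = χ g := by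
  obtain ⟨n, ρ, rfl⟩ := hχ
  have hK : ∀ g, g ∈ MonoidHom.ker (ρ : L →* _) ↔ ρ.character g = ρ.character 1 := by
    intro g
    rw [MonoidHom.mem_ker, Representation.char_one, character_eq_finrank_iff]
    rfl
  let ρ' : Representation ℂ (L ⧸ MonoidHom.ker (ρ : L →* _)) (Fin n → ℂ) :=
    QuotientGroup.lift _ (ρ : L →* _) (le_refl _)
  exact ⟨MonoidHom.ker (ρ : L →* _), inferInstance, ρ'.character, hK, ⟨n, ρ', rfl⟩, fun g => rfl⟩

theorem exists_centralizing_pgroup_of_index_pow (A : Subgroup L) (hA : A.Normal) (p : ℕ)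
    (hp : p.Prime) (hpA : ¬ p ∣ Nat.card A) (hidx : ∃ k, A.index = p ^ k) (ψ : L → ℂ)
    (hψ : IsCharacter L ψ) (hfaith : ∀ a ∈ A, ψ a = ψ 1 → a = 1) (n : ℕ)
    (hn : charDegree ψ = n) :
    ∃ M : Subgroup L, M ≤ Subgroup.centralizer (A : Set L) ∧ IsPGroup p M ∧
      (M.index).factorization p ≤ ∑ i ∈ Finset.range (n + 1), n / ((p - 1) * p ^ i) := by
  classical
  have : Fintype L := Fintype.ofFinite L
  have hp' : Fact p.Prime := ⟨hp⟩
  obtain ⟨ψ', hψ'c, hψ'A, hψ'σ⟩ := exists_prat_lift A hA p hp hpA hidx ψ hψ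
  obtain ⟨M, hMn, β, hM, hβ, hβmk⟩ := exists_kernel_deflation_char hψ'c
  have h1 : ψ' 1 = ψ 1 := hψ'A 1
  have hβ1 : β 1 = ψ 1 := by
    rw [← h1, ← hβmk 1]
    rfl
  have hdeg : charDegree β = n := by
    rw [← hn]
    unfold charDegree
    rw [hβ1]
  have hfaithβ : ∀ q : L ⧸ M, β q = β 1 → q = 1 := by
    intro q hq
    induction q using QuotientGroup.induction_on with
    | H g =>
      rw [hβmk g, hβ1, ← h1] at hq
      exact (QuotientGroup.eq_one_iff g).mpr ((hM g).mpr hq)
  have hrat : ∃ r : ℕ, 0 < r ∧ ¬ p ∣ r ∧ ∀ q : L ⧸ M, β q ∈ IntermediateField.adjoin ℚ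
      ({Complex.exp (2 * Real.pi * Complex.I / r)} : Set ℂ) := by
    refine ⟨Nat.card A, Nat.card_pos, hpA, ?_⟩
    intro q
    induction q using QuotientGroup.induction_on with
    | H g =>
      rw [hβmk g]
      exact character_mem_adjoin_of_fixed hψ'c g (Nat.card A) Nat.card_pos
        (fun σ hσ => hψ'σ σ hσ g)
  have hmain := Cfsg.Agent.S4488.result p hp β hβ hfaithβ hrat n hdeg
  have hdisj : Disjoint M A := by
    rw [Subgroup.disjoint_def]
    intro x hxM hxA
    apply hfaith x hxA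
    have h2 := (hM x).mp hxM
    have h3 := hψ'A ⟨x, hxA⟩
    rw [← h3, ← h1]
    exact h2
  refine ⟨M, ?_, ?_, ?_⟩
  · intro m hm
    rw [Subgroup.mem_centralizer_iff]
    intro a ha
    exact (Subgroup.commute_of_normal_of_disjoint M A hMn hA hdisj m a hm ha).eq.symm
  · obtain ⟨k, hk⟩ := hidx
    have h4 : Nat.card M = A.relIndex M := by
      rw [← Subgroup.inf_relIndex_right, inf_comm, disjoint_iff.mp hdisj, Subgroup.relIndex_bot_left]
    have h5 : Nat.card M ∣ p ^ k := by
      rw [h4, ← hk]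
      exact Subgroup.relIndex_dvd_index_of_normal A M
    obtain ⟨j, -, hj⟩ := (Nat.dvd_prime_pow hp).1 h5
    exact IsPGroup.of_card hj
  · rw [Subgroup.index_eq_card]
    exact hmain

end Cfsg.Agent.Lib.Helper5.PSolvLin
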