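import Mathlib
import Cfsg.Agent.Lib.Helper1.SZHelpers
import Cfsg.Agent.Lib.Helper1.Hall
import Cfsg.Agent.Lib.Helper1.FrattiniHall
import Cfsg.Agent.Lib.Helper1.SZConj

/-!
# Frattini argument for complements of a solvable normal Hall subgroup
-/

set_option autoImplicit false
open Pointwise
universe u
namespace Cfsg.Agent.Lib.Helper5.PSolvLin

open Cfsg.Agent.Lib.Helper1

variable {G : Type u} [Group G]

/-- Relative Frattini argument for complements of a solvable normal Hall subgroup `Q` of `R`:
any element normalizing `R` is, up to an element of `Q`, in the normalizer of the complement. -/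
theorem exists_mul_mem_normalizer_of_complement_solv [Finite G] (Q R H : Subgroup G) (hQR : Q ≤ R)
    (hHR : H ≤ R) (hQs : Group.IsSolvable Q) (hRQ : R ≤ Subgroup.normalizer (Q : Set G))
    (hcard : Nat.card R = Nat.card Q * Nat.card H)
    (hcop : (Nat.card Q).Coprime (Nat.card H))
    (m : G) (hmR : m ∈ Subgroup.normalizer (R : Set G)) :
    ∃ a ∈ Q, a⁻¹ * m ∈ Subgroup.normalizer (H : Set G) := by
  have hQn : (Q.subgroupOf R).Normal := (Subgroup.normal_subgroupOf_iff_le_normalizer hQR).mpr hRQ
  have hQs' : Group.IsSolvable (Q.subgroupOf R) :=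
    Group.isSolvable_of_isSolvable_injective
      (f := (Subgroup.subgroupOfEquivOfLe hQR).toMonoidHom) (Subgroup.subgroupOfEquivOfLe hQR).injective
  obtain ⟨H', hH'⟩ : ∃ H', H' = MulAut.conj m • H := ⟨_, rfl⟩
  have hH'R : H' ≤ R := by
    rw [hH']
    intro x hx
    rw [Subgroup.mem_pointwise_smul_iff_inv_smul_mem] at hx
    have h1 : m⁻¹ * x * m ∈ R := by
      have : (MulAut.conj m)⁻¹ • x = m⁻¹ * x * m := by simp [MulAut.smul_def, ← map_inv]
      rw [this] at hx
      exact hHR hx
    have h2 := (Subgroup.mem_normalizer_iff.mp hmR (m⁻¹ * x * m)).mp h1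
    have e : m * (m⁻¹ * x * m) * m⁻¹ = x := by group
    rwa [e] at h2
  have hH'card : Nat.card H' = Nat.card H := by rw [hH']; exact card_conj_smul m H
  have hcQ : Nat.card (Q.subgroupOf R) = Nat.card Q := card_subgroupOf_of_le hQR
  have hcH : Nat.card (H.subgroupOf R) = Nat.card H := card_subgroupOf_of_le hHR
  have hcH' : Nat.card (H'.subgroupOf R) = Nat.card H := by
    rw [card_subgroupOf_of_le hH'R, hH'card]
  have hcompH : Subgroup.IsComplement' (Q.subgroupOf R) (H.subgroupOf R) := by
    apply Subgroup.isComplement'_of_card_mul_and_disjoint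
    · rw [hcQ, hcH, hcard]
    · apply Subgroup.disjoint_of_coprime_natCard
      rw [hcQ, hcH]; exact hcop
  have hcompH' : Subgroup.IsComplement' (Q.subgroupOf R) (H'.subgroupOf R) := by
    apply Subgroup.isComplement'_of_card_mul_and_disjoint
    · rw [hcQ, hcH', hcard]
    · apply Subgroup.disjoint_of_coprime_natCard
      rw [hcQ, hcH']; exact hcop
  obtain ⟨a, ha, hconj⟩ := sz_conj_mem (Q.subgroupOf R) (H.subgroupOf R) (H'.subgroupOf R)
    hcompH hcompH' (by rw [hcQ, hcH]; exact hcop) (Or.inl hQs')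
  have h1 : MulAut.conj (a : G) • H = H' := conj_smul_of_subgroupOf hHR hH'R a hconj
  refine ⟨a, Subgroup.mem_subgroupOf.mp ha, ?_⟩
  apply mem_normalizer_of_conj_smul_eq
  rw [map_mul, mul_smul, ← hH', ← h1, ← mul_smul, ← map_mul, inv_mul_cancel, map_one, one_smul]

end Cfsg.Agent.Lib.Helper5.PSolvLin
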