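import Mathlib
import Cfsg.Prelude.Def_Solvable
import Cfsg.Prelude.Def_Local
import Cfsg.Agent.S4218
import Cfsg.Agent.Lib.Helper2.Cores
import Cfsg.Agent.Lib.Helper2.HHDual
import Cfsg.Agent.Lib.Helper1.Hall
import Cfsg.Agent.Lib.Helper1.SZHelpers
import Cfsg.Agent.Lib.Helper5.PSolvLin.FrattiniSZ

/-!
# A `p'`-subgroup controlling `O_p` in a `p`-solvable group

In a finite `p`-solvable group `G` there is a `p'`-subgroup `K₀` with `G = O_p(G) N_G(K₀)` such
that every `p`-subgroup of `G` centralizing `K₀` lies in `O_p(G)`.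
-/

set_option autoImplicit false

namespace Cfsg.Agent.Lib.Helper5.PSolvLin

open Cfsg

universe u

theorem exists_pprime_with_frattini {G : Type u} [Group G] [Finite G] (p : ℕ) (hp : p.Prime)
    (hsolv : IsPSolvable p G) :
    ∃ K₀ : Subgroup G, ¬ p ∣ Nat.card K₀ ∧
      pCore p G ⊔ Subgroup.normalizer (K₀ : Set G) = ⊤ ∧
      ∀ M : Subgroup G, IsPGroup p M → M ≤ Subgroup.centralizer (K₀ : Set G) → M ≤ pCore p G := by
  classical
  have hp' : Fact p.Prime := ⟨hp⟩
  obtain ⟨N, hNdef⟩ : ∃ N : Subgroup G, N = pCore p G := ⟨_, rfl⟩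
  have hNn : N.Normal := by rw [hNdef]; exact (Cfsg.Agent.Lib.Helper2.pCore_mem p).1
  have hNp : IsPGroup p N := by rw [hNdef]; exact Cfsg.Agent.Lib.Helper2.pCore_isPGroup p
  have hXcore : pCore p (G ⧸ N) = ⊥ := by subst hNdef; exact Cfsg.Agent.Lib.Helper2.pCore_quotient_pCore_eq_bot p
  have hXsolv : IsPSolvable p (G ⧸ N) := Cfsg.Agent.S4218.isPSolvable_quotient p N hsolv
  obtain ⟨R, hRdef⟩ : ∃ R : Subgroup (G ⧸ N), R = pPrimeCore p (G ⧸ N) := ⟨_, rfl⟩
  have hRn : R.Normal := by rw [hRdef]; exact (Cfsg.Agent.Lib.Helper2.pPrimeCore_mem p).1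
  have hRcop : (Nat.card R).Coprime p := by rw [hRdef]; exact Cfsg.Agent.Lib.Helper2.pPrimeCore_card_coprime p
  have hRc : Subgroup.centralizer (R : Set (G ⧸ N)) ≤ R := by
    rw [hRdef]; exact Cfsg.Agent.Lib.Helper2.centralizer_pPrimeCore_le p hXsolv hXcore
  obtain ⟨K, hKdef⟩ : ∃ K : Subgroup G, K = R.comap (QuotientGroup.mk' N) := ⟨_, rfl⟩
  have hKn : K.Normal := by rw [hKdef]; exact hRn.comap _
  have hNK : N ≤ K := by
    rw [hKdef]
    intro x hx
    rw [Subgroup.mem_comap]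
    have : QuotientGroup.mk' N x = 1 := (QuotientGroup.eq_one_iff x).mpr hx
    rw [this]
    exact R.one_mem
  have hcardK : Nat.card K = Nat.card N * Nat.card R := by rw [hKdef]; exact Cfsg.Agent.Lib.Helper1.card_comap_mk' N R
  obtain ⟨a, ha⟩ := IsPGroup.iff_card.mp hNp
  have hcopNR : (Nat.card N).Coprime (Nat.card R) := by
    rw [ha]; exact Nat.Coprime.pow_left a hRcop.symm
  -- a complement of `N` in `K`
  have hN'n : (N.subgroupOf K).Normal := hNn.subgroupOf K
  have hcN' : Nat.card (N.subgroupOf K) = Nat.card N := Cfsg.Agent.Lib.Helper1.card_subgroupOf_of_le hNK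
  have hidxN' : (N.subgroupOf K).index = Nat.card R := by
    have h1 : (N.subgroupOf K).index * Nat.card (N.subgroupOf K) = Nat.card K :=
      Subgroup.index_mul_card _
    rw [hcN', hcardK, mul_comm] at h1
    exact Nat.eq_of_mul_eq_mul_left Nat.card_pos h1
  obtain ⟨K₀', hK₀'⟩ := Subgroup.exists_right_complement'_of_coprime (N := N.subgroupOf K)
    (by rw [hcN', hidxN']; exact hcopNR)
  have hcK₀' : Nat.card K₀' = Nat.card R := by
    rw [← hidxN']; exact hK₀'.symm.index_eq_card.symm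
  obtain ⟨K₀, hK₀def⟩ : ∃ K₀ : Subgroup G, K₀ = K₀'.map K.subtype := ⟨_, rfl⟩
  have hcK₀ : Nat.card K₀ = Nat.card R := by
    rw [hK₀def, Subgroup.card_map_of_injective K.subtype_injective, hcK₀']
  have hK₀K : K₀ ≤ K := by rw [hK₀def]; exact Subgroup.map_subtype_le K₀'
  refine ⟨K₀, ?_, ?_, ?_⟩
  · rw [hcK₀]
    exact (Nat.Prime.coprime_iff_not_dvd hp).1 hRcop.symm
  · rw [eq_top_iff]
    intro g _
    have hNs : Group.IsSolvable N := by
      have := hNp.isNilpotent
      infer_instance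
    obtain ⟨a', ha', hg⟩ := exists_mul_mem_normalizer_of_complement_solv N K K₀ hNK hK₀K hNs
      (by rw [Subgroup.normalizer_eq_top]; exact le_top) (by rw [hcardK, hcK₀])
      (by rw [hcK₀]; exact hcopNR) g (by rw [Subgroup.normalizer_eq_top]; trivial)
    have hgg : g = a' * (a'⁻¹ * g) := by group
    rw [hgg, ← hNdef]
    exact Subgroup.mul_mem_sup ha' hg
  · intro M hMp hMc x hxM
    rw [← hNdef]
    have h1 : (QuotientGroup.mk' N x) ∈ Subgroup.centralizer (R : Set (G ⧸ N)) := by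
      rw [Subgroup.mem_centralizer_iff]
      intro y hy
      obtain ⟨k, rfl⟩ := QuotientGroup.mk'_surjective N y
      have hkK : k ∈ K := by rw [hKdef]; exact hy
      obtain ⟨⟨n', k₀'⟩, hnk⟩ := hK₀'.2 ⟨k, hkK⟩
      have hnk' : ((n'.1 : K) : G) * ((k₀'.1 : K) : G) = k := by
        have := congrArg Subtype.val hnk
        simpa using this
      have hn'N : ((n'.1 : K) : G) ∈ N := Subgroup.mem_subgroupOf.mp n'.2
      have hk₀ : ((k₀'.1 : K) : G) ∈ K₀ := by
        rw [hK₀def]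
        exact Subgroup.mem_map_of_mem K.subtype k₀'.2
      have hcomm := Subgroup.mem_centralizer_iff.mp (hMc hxM) _ hk₀
      have hmk : QuotientGroup.mk' N k = QuotientGroup.mk' N ((k₀'.1 : K) : G) := by
        have h0 : QuotientGroup.mk' N ((n'.1 : K) : G) = 1 := (QuotientGroup.eq_one_iff _).mpr hn'N
        rw [← hnk', map_mul, h0, one_mul]
      rw [hmk, ← map_mul, ← map_mul, hcomm]
    have h2 : QuotientGroup.mk' N x ∈ R := hRc h1
    obtain ⟨j, hj⟩ := hMp ⟨x, hxM⟩
    have hxj : x ^ (p ^ j) = 1 := by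
      have := congrArg Subtype.val hj
      simpa using this
    have h3 : (QuotientGroup.mk' N x) ^ (p ^ j) = 1 := by rw [← map_pow, hxj, map_one]
    have h4 : (QuotientGroup.mk' N x) ^ (Nat.card R) = 1 := by
      have h := Subtype.ext_iff.mp (pow_card_eq_one' (G := R) (x := ⟨_, h2⟩))
      simpa only [Subgroup.coe_pow, Subgroup.coe_one] using h
    have h5 : orderOf (QuotientGroup.mk' N x) ∣ Nat.gcd (p ^ j) (Nat.card R) :=
      Nat.dvd_gcd (orderOf_dvd_of_pow_eq_one h3) (orderOf_dvd_of_pow_eq_one h4)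
    have h6 : Nat.gcd (p ^ j) (Nat.card R) = 1 := Nat.Coprime.pow_left j hRcop.symm
    rw [h6, Nat.dvd_one, orderOf_eq_one_iff] at h5
    exact (QuotientGroup.eq_one_iff x).mp h5

end Cfsg.Agent.Lib.Helper5.PSolvLin
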