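import Mathlib
import Cfsg.Prelude.Def_Characters
import Cfsg.Prelude.Def_Blocks
import Cfsg.Agent.Lib.Helper6.Mult
import Cfsg.Agent.Lib.Helper5.PSolvLin.Deflate

/-!
# The Sylow step

Let `A` be a normal `p'`-subgroup of `H` and `ψ` a character of `H` of degree `n` faithful on
`A`. Then some `p`-subgroup `M` of `H` centralizes `A` and the `p`-part of `|H| / |M|` satisfies
the Schur bound for degree `n`.
-/

set_option autoImplicit false

namespace Cfsg.Agent.Lib.Helper5.PSolvLin

open Cfsg Cfsg.Agent.Lib.Helper6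

variable {H : Type*} [Group H] [Finite H]

theorem exists_centralizing_pgroup (A : Subgroup H) (hA : A.Normal) (p : ℕ)
    (hp : p.Prime) (hpA : ¬ p ∣ Nat.card A) (ψ : H → ℂ)
    (hψ : IsCharacter H ψ) (hfaith : ∀ a ∈ A, ψ a = ψ 1 → a = 1) (n : ℕ)
    (hn : charDegree ψ = n) :
    ∃ M : Subgroup H, M ≤ Subgroup.centralizer (A : Set H) ∧ IsPGroup p M ∧
      (Nat.card H).factorization p ≤ (Nat.card M).factorization p +
        ∑ i ∈ Finset.range (n + 1), n / ((p - 1) * p ^ i) := by
  classical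
  have := hA
  have hp' : Fact p.Prime := ⟨hp⟩
  obtain ⟨Q⟩ : Nonempty (Sylow p H) := inferInstance
  obtain ⟨L, hLdef⟩ : ∃ L : Subgroup H, L = A ⊔ (Q : Subgroup H) := ⟨_, rfl⟩
  have hAL : A ≤ L := by rw [hLdef]; exact le_sup_left
  have hQL : (Q : Subgroup H) ≤ L := by rw [hLdef]; exact le_sup_right
  have hA' : (A.subgroupOf L).Normal := hA.subgroupOf L
  have hcardA' : Nat.card (A.subgroupOf L) = Nat.card A :=
    Nat.card_congr (Subgroup.subgroupOfEquivOfLe hAL).toEquiv
  have hcardQ : Nat.card (Q : Subgroup H) = p ^ (Nat.card H).factorization p :=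
    Sylow.card_eq_multiplicity Q
  have hidx : ∃ k, (A.subgroupOf L).index = p ^ k := by
    have h1 : (A.subgroupOf L).index = A.relIndex (Q : Subgroup H) := by
      show A.relIndex L = _
      rw [hLdef, Subgroup.relIndex_sup_left]
    have h2 : A.relIndex (Q : Subgroup H) ∣ p ^ (Nat.card H).factorization p := by
      rw [← hcardQ]
      exact Subgroup.relIndex_dvd_card A (Q : Subgroup H)
    obtain ⟨j, -, hj⟩ := (Nat.dvd_prime_pow hp).1 h2
    exact ⟨j, by rw [h1, hj]⟩
  have hψL : IsCharacter L (fun x : L => ψ x) := IsCharacter.restrict L hψ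
  have hfaithL : ∀ a ∈ A.subgroupOf L, (fun x : L => ψ x) a = (fun x : L => ψ x) 1 → a = 1 := by
    intro a ha h
    apply Subtype.ext
    exact hfaith (a : H) (Subgroup.mem_subgroupOf.mp ha) h
  have hdegL : charDegree (fun x : L => ψ x) = n := by
    rw [← hn]
    rfl
  obtain ⟨M₀, hM₀c, hM₀p, hM₀idx⟩ := exists_centralizing_pgroup_of_index_pow (A.subgroupOf L) hA' p
    hp (by rw [hcardA']; exact hpA) hidx (fun x : L => ψ x) hψL hfaithL n hdegL
  refine ⟨M₀.map L.subtype, ?_, hM₀p.map L.subtype, ?_⟩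
  · rintro _ ⟨m, hm, rfl⟩
    rw [Subgroup.mem_centralizer_iff]
    intro a ha
    have h1 := Subgroup.mem_centralizer_iff.mp (hM₀c hm) ⟨a, hAL ha⟩
      (Subgroup.mem_subgroupOf.mpr ha)
    exact congrArg Subtype.val h1
  · have hcardM : Nat.card (M₀.map L.subtype) = Nat.card M₀ :=
      Subgroup.card_map_of_injective L.subtype_injective
    rw [hcardM]
    have h1 : p ^ (Nat.card H).factorization p ∣ Nat.card L := by
      rw [← hcardQ]
      exact Subgroup.card_dvd_of_le hQL
    have h2 : M₀.index * Nat.card M₀ = Nat.card L := Subgroup.index_mul_card M₀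
    have hne1 : M₀.index ≠ 0 := Subgroup.index_ne_zero_of_finite
    have hne2 : Nat.card M₀ ≠ 0 := Nat.card_pos.ne'
    rw [← h2] at h1
    have h3 := (Nat.Prime.pow_dvd_iff_le_factorization hp (Nat.mul_ne_zero hne1 hne2)).1 h1
    rw [Nat.factorization_mul hne1 hne2, Finsupp.add_apply] at h3
    omega

end Cfsg.Agent.Lib.Helper5.PSolvLin
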